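import Mathlib
import Cfsg.Agent.H192.Af.Defs

/-!
# S5731, AF3: abelian and class-two normal subgroups of homogeneous linear groups (helper112)

* `smul_eq_zero_of` : an element of `KA V M` which kills a simple submodule is zero;
* `index_centralizer_le` : `|H : C_H(A)| ≤ log₂ |V|` for an abelian normal subgroup `A`;
* `cyclic_of_homog` : `A` is cyclic.
-/

set_option autoImplicit false
set_option linter.unusedSectionVars false
set_option linter.style.haveILetI false

namespace Cfsg.Agent.H112.Af

open Cfsg.Agent.H717.FieldOf Cfsg.Agent.H192.Af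

universe u v

theorem two_pow_card_aut (F : Type*) [Field F] [Finite F] : 2 ^ Nat.card (F ≃+* F) ≤ Nat.card F := by
  have := Fintype.ofFinite F
  obtain ⟨p, hp⟩ := CharP.exists F
  have hpr : Fact p.Prime := ⟨CharP.char_is_prime F p⟩
  let _ : Algebra (ZMod p) F := ZMod.algebra F p
  let e : (F ≃ₐ[ZMod p] F) ≃ (F ≃+* F) :=
    { toFun := fun f => f.toRingEquiv
      invFun := fun f => AlgEquiv.ofRingEquiv (f := f) (fun x => by
        obtain ⟨k, rfl⟩ := ZMod.natCast_zmod_surjective x
        simp)
      left_inv := fun f => by ext x; rfl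
      right_inv := fun f => by ext x; rfl }
  have h1 : Nat.card (F ≃ₐ[ZMod p] F) = Module.finrank (ZMod p) F := IsGalois.card_aut_eq_finrank (ZMod p) F
  rw [← Nat.card_congr e, h1]
  have h2 : Nat.card F = p ^ Module.finrank (ZMod p) F := by
    rw [Module.natCard_eq_pow_finrank (K := ZMod p), Nat.card_zmod]
  rw [h2]
  exact Nat.pow_le_pow_left hpr.out.two_le _

section

variable {V : Type u} [AddCommGroup V] {H : Type v} [Group H] [DistribMulAction H V]

theorem coe_smul (M : Subgroup H) (r : KA V M) (w : V) : r • w = (r : AddMonoid.End V) w := rfl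

/-- an element of the ring which kills a simple submodule is zero -/
theorem eq_zero_of_simple {M : Subgroup H} (hM : Homog V M) {W : Submodule (KA V M) V}
    (hW : IsSimpleModule (KA V M) W) {r : KA V M} (hr : ∀ w ∈ W, r • w = 0) : r = 0 := by
  obtain ⟨hss, hiso⟩ := hM
  have h1 : ∀ S : Submodule (KA V M) V, IsSimpleModule (KA V M) S → ∀ w ∈ S, r • w = 0 := by
    intro S hS w hw
    obtain ⟨e⟩ := hiso W S
    have h2 := hr (e ⟨w, hw⟩) (e ⟨w, hw⟩).2
    have h3 : r • e ⟨w, hw⟩ = 0 := Subtype.ext h2
    rw [← map_smul, LinearEquiv.map_eq_zero_iff] at h3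
    exact congrArg Subtype.val h3
  have h2 : ∀ w : V, r • w = 0 := by
    intro w
    have h3 : w ∈ sSup {m : Submodule (KA V M) V | IsSimpleModule (KA V M) m} := by
      rw [IsSemisimpleModule.sSup_simples_eq_top]
      exact Submodule.mem_top
    rw [sSup_eq_iSup'] at h3
    refine Submodule.iSup_induction _ (motive := fun w => r • w = 0) h3 ?_ (smul_zero r) ?_
    · rintro ⟨S, hS⟩ w hw
      exact h1 S hS w hw
    · intro a b ha hb
      rw [smul_add, ha, hb, add_zero]
  exact Subtype.ext (AddMonoidHom.ext h2)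

variable [Finite V]

/-- for an abelian subgroup: an element of the ring which kills a nonzero vector is zero -/
theorem eq_zero_of_apply {A : Subgroup H} (hA : Homog V A) (hab : IsMulCommutative A) {r : KA V A} {w : V}
    (hw : w ≠ 0) (hr : r • w = 0) : r = 0 := by
  have hab' : ∀ a ∈ A, ∀ b ∈ A, a * b = b * a := fun a ha b hb =>
    congrArg Subtype.val (hab.is_comm.comm (⟨a, ha⟩ : A) ⟨b, hb⟩)
  have hss := hA.1
  -- the kernel of `r` is a submodule
  let K : Submodule (KA V A) V :=
    { carrier := {x | r • x = 0}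
      add_mem' := fun {a b} ha hb => by
        have ha' : r • a = 0 := ha
        have hb' : r • b = 0 := hb
        change r • (a + b) = 0
        rw [smul_add, ha', hb', add_zero]
      zero_mem' := smul_zero r
      smul_mem' := fun c x hx => by
        have hx' : r • x = 0 := hx
        change r • (c • x) = 0
        have h1 : r * c = c * r := Subtype.ext (KA_comm A hab' r.2 c.2)
        rw [← mul_smul, h1, mul_smul, hx', smul_zero] }
  have hKn : Nontrivial K := ⟨⟨⟨w, hr⟩, 0, fun h => hw (congrArg Subtype.val h)⟩⟩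
  obtain ⟨S, hS⟩ := IsSemisimpleModule.exists_simple_submodule (KA V A) K
  have hS' : IsSimpleModule (KA V A) (S.map K.subtype) := by
    have e : (S.map K.subtype) ≃ₗ[KA V A] S := (Submodule.equivMapOfInjective K.subtype K.subtype_injective S).symm
    exact IsSimpleModule.congr (N := S) e
  refine eq_zero_of_simple hA hS' ?_
  rintro _ ⟨x, -, rfl⟩
  exact x.2

/-- the ring generated by an abelian normal subgroup is a domain -/
theorem mul_eq_zero' {A : Subgroup H} (hA : Homog V A) (hab : IsMulCommutative A) {r s : KA V A}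
    (h : r * s = 0) : r = 0 ∨ s = 0 := by
  by_contra hne
  rw [not_or] at hne
  have hb : ∃ y : V, s • y ≠ 0 := by
    by_contra hcon
    push Not at hcon
    exact hne.2 (Subtype.ext (AddMonoidHom.ext hcon))
  obtain ⟨y, hy⟩ := hb
  refine hne.1 (eq_zero_of_apply hA hab hy ?_)
  rw [← mul_smul, h, zero_smul]

variable [Finite H] [FaithfulSMul H V]

/-- **`H / C_H(A)` acts faithfully on the field generated by `A`.** -/
theorem index_centralizer_le {p : ℕ} (_hp : p.Prime) (_hpV : ∀ w : V, p • w = 0) [Nontrivial V]
    (A : Subgroup H) [A.Normal] (hA : Homog V A) (hab : IsMulCommutative A) :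
    (Subgroup.centralizer (A : Set H)).index ≤ Nat.log 2 (Nat.card V) := by
  have hfin : Finite (AddMonoid.End V) := finite_end
  have hab' : ∀ a ∈ A, ∀ b ∈ A, a * b = b * a := fun a ha b hb =>
    congrArg Subtype.val (hab.is_comm.comm (⟨a, ha⟩ : A) ⟨b, hb⟩)
  obtain ⟨x₀, hx₀⟩ := exists_ne (0 : V)
  let R : Subring (AddMonoid.End V) := KA V A
  letI : CommRing R := { (inferInstance : Ring R) with
    mul_comm := fun a b => Subtype.ext (KA_comm A hab' a.2 b.2) }
  haveI : Nontrivial R := ⟨⟨0, 1, by
    intro h
    have h2 : (0 : AddMonoid.End V) = 1 := congrArg Subtype.val h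
    have h3 := DFunLike.congr_fun h2 x₀
    exact hx₀ h3.symm⟩⟩
  haveI : NoZeroDivisors R := ⟨fun {a b} h => mul_eq_zero' hA hab h⟩
  haveI : IsDomain R := NoZeroDivisors.to_isDomain R
  letI : Field R := (Finite.isField_of_domain R).toField
  let cjR : H → (R ≃+* R) := fun d =>
    { toFun := fun r => ⟨cj V d r, cj_mem A d r.2⟩
      invFun := fun r => ⟨cj V d⁻¹ r, cj_mem A d⁻¹ r.2⟩
      left_inv := fun r => Subtype.ext (by
        change cj V d⁻¹ (cj V d (r : AddMonoid.End V)) = r
        rw [← cj_mul, inv_mul_cancel, cj_one])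
      right_inv := fun r => Subtype.ext (by
        change cj V d (cj V d⁻¹ (r : AddMonoid.End V)) = r
        rw [← cj_mul, mul_inv_cancel, cj_one])
      map_mul' := fun r s => Subtype.ext (map_mul (cj V d) (r : AddMonoid.End V) (s : AddMonoid.End V))
      map_add' := fun r s => Subtype.ext (map_add (cj V d) (r : AddMonoid.End V) (s : AddMonoid.End V)) }
  let σ : H →* (R ≃+* R) :=
    { toFun := cjR
      map_one' := RingEquiv.ext fun r => Subtype.ext (cj_one _)
      map_mul' := fun c d => RingEquiv.ext fun r => Subtype.ext (cj_mul c d _) }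
  have hker : σ.ker ≤ Subgroup.centralizer (A : Set H) := by
    intro d hd
    rw [Subgroup.mem_centralizer_iff]
    intro a ha
    have h5 : cj V d (dl V a) = dl V a := by
      have := congrArg (fun f : R ≃+* R => ((f ⟨dl V a, dl_mem A ha⟩ : R) : AddMonoid.End V)) (MonoidHom.mem_ker.1 hd)
      exact this
    rw [cj_apply, ← map_mul, ← map_mul] at h5
    have h6 : d * a * d⁻¹ = a := by
      apply FaithfulSMul.eq_of_smul_eq_smul (α := V)
      intro e
      exact DFunLike.congr_fun h5 e
    calc a * d = (d * a * d⁻¹) * d := by rw [h6]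
      _ = d * a := by group
  have h1 : (Subgroup.centralizer (A : Set H)).index ≤ σ.ker.index :=
    Subgroup.index_antitone hker
  have hfR : Finite (R ≃+* R) := Finite.of_injective (fun f : R ≃+* R => (f : R → R)) DFunLike.coe_injective
  have h2 : σ.ker.index ≤ Nat.card (R ≃+* R) := by
    rw [Subgroup.index_ker]
    exact Nat.card_le_card_of_injective _ (Subtype.coe_injective)
  have h3 : Nat.card R ≤ Nat.card V := by
    refine Nat.card_le_card_of_injective (fun r : R => r • x₀) ?_
    intro a b hab2
    have hab3 : a • x₀ = b • x₀ := hab2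
    rw [← sub_eq_zero]
    refine eq_zero_of_apply hA hab hx₀ ?_
    change (a - b) • x₀ = 0
    rw [sub_smul, hab3, sub_self]
  have h4 := two_pow_card_aut R
  refine (h1.trans h2).trans (Nat.le_log_of_pow_le (by norm_num) (h4.trans h3))

/-- an abelian subgroup with `V` homogeneous is cyclic -/
theorem cyclic_of_homog [Nontrivial V] {A : Subgroup H} (hA : Homog V A) (hab : IsMulCommutative A) :
    IsCyclic A := by
  have hfin : Finite (AddMonoid.End V) := finite_end
  have hab' : ∀ a ∈ A, ∀ b ∈ A, a * b = b * a := fun a ha b hb =>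
    congrArg Subtype.val (hab.is_comm.comm (⟨a, ha⟩ : A) ⟨b, hb⟩)
  obtain ⟨x₀, hx₀⟩ := exists_ne (0 : V)
  let R : Subring (AddMonoid.End V) := KA V A
  letI : CommRing R := { (inferInstance : Ring R) with
    mul_comm := fun a b => Subtype.ext (KA_comm A hab' a.2 b.2) }
  haveI : Nontrivial R := ⟨⟨0, 1, by
    intro h
    have h2 : (0 : AddMonoid.End V) = 1 := congrArg Subtype.val h
    have h3 := DFunLike.congr_fun h2 x₀
    exact hx₀ h3.symm⟩⟩
  haveI : NoZeroDivisors R := ⟨fun {a b} h => mul_eq_zero' hA hab h⟩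
  haveI : IsDomain R := NoZeroDivisors.to_isDomain R
  let φ : A →* R :=
    { toFun := fun a => ⟨dl V (a : H), dl_mem A a.2⟩
      map_one' := Subtype.ext (map_one (dl V))
      map_mul' := fun a b => Subtype.ext (map_mul (dl V) (a : H) (b : H)) }
  refine isCyclic_of_injective_ringHom φ ?_
  intro a b hab2
  apply Subtype.ext
  apply FaithfulSMul.eq_of_smul_eq_smul (α := V)
  intro e
  exact DFunLike.congr_fun (congrArg Subtype.val hab2) e

end

end Cfsg.Agent.H112.Af
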