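import Cfsg.Agent.H112.Af.Quot

/-!
# S5731, AF3: the number of automorphisms induced on a normal subgroup of class two (helper112)
-/

set_option autoImplicit false
set_option linter.unusedSectionVars false
set_option linter.style.haveILetI false

namespace Cfsg.Agent.H112.Af

open Cfsg.Agent.H717.FieldOf Cfsg.Agent.H192.Af

universe u v

/-! ### numbers -/

theorem cube_le {m : ℕ} (h : 10 ≤ m) : m ^ 3 ≤ 2 ^ m := by
  induction m, h using Nat.le_induction with
  | base => norm_num
  | succ m hm ih =>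
    have h1 : (m + 1) ^ 3 ≤ 2 * m ^ 3 := by nlinarith [Nat.mul_le_mul hm (Nat.mul_le_mul hm hm), hm, sq_nonneg m]
    rw [pow_succ 2 m]
    omega

theorem exists_bound (k : ℕ) : ∃ N : ℕ, ∀ n c : ℕ, N ≤ n → c ≤ Nat.log 2 n ^ 2 →
    (Nat.log 2 n * c ^ (2 * Nat.log 2 c)) ^ k ≤ n := by
  refine ⟨2 ^ (2 ^ (18 * k + 10)), fun n c hn hc => ?_⟩
  have hn0 : n ≠ 0 := by
    rintro rfl
    have : 0 < 2 ^ (2 ^ (18 * k + 10)) := by positivity
    omega
  set l := Nat.log 2 n with hl
  have hl1 : 2 ^ (18 * k + 10) ≤ l := by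
    rw [hl]
    exact Nat.le_log_of_pow_le (by norm_num) hn
  have hl0 : l ≠ 0 := by
    have : 0 < 2 ^ (18 * k + 10) := by positivity
    omega
  have hln : 2 ^ l ≤ n := Nat.pow_log_le_self 2 hn0
  set t := Nat.log 2 l with ht
  have ht1 : 18 * k + 10 ≤ t := by
    rw [ht]
    exact Nat.le_log_of_pow_le (by norm_num) hl1
  have htl : 2 ^ t ≤ l := Nat.pow_log_le_self 2 hl0
  have hlt : l ≤ 2 ^ (t + 1) := (Nat.lt_pow_succ_log_self (by norm_num) l).le
  have hc1 : c ≤ 2 ^ (2 * (t + 1)) := by
    refine hc.trans ?_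
    rw [mul_comm 2, pow_mul]
    exact Nat.pow_le_pow_left hlt 2
  have hc2 : Nat.log 2 c ≤ 2 * (t + 1) := by
    calc Nat.log 2 c ≤ Nat.log 2 (2 ^ (2 * (t + 1))) := Nat.log_mono_right hc1
      _ = 2 * (t + 1) := Nat.log_pow (by norm_num) _
  have h1 : l * c ^ (2 * Nat.log 2 c) ≤ 2 ^ (9 * (t + 1) ^ 2) := by
    calc l * c ^ (2 * Nat.log 2 c) ≤ 2 ^ (t + 1) * (2 ^ (2 * (t + 1))) ^ (2 * (2 * (t + 1))) := by
          refine Nat.mul_le_mul hlt ?_
          calc c ^ (2 * Nat.log 2 c) ≤ (2 ^ (2 * (t + 1))) ^ (2 * Nat.log 2 c) := Nat.pow_le_pow_left hc1 _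
            _ ≤ _ := Nat.pow_le_pow_right (by positivity) (by omega)
      _ = 2 ^ (t + 1 + 2 * (t + 1) * (2 * (2 * (t + 1)))) := by rw [← pow_mul, ← pow_add]
      _ ≤ 2 ^ (9 * (t + 1) ^ 2) := by
          refine Nat.pow_le_pow_right (by norm_num) ?_
          nlinarith
  have h2 : 9 * (t + 1) ^ 2 * k ≤ l := by
    have h3 := cube_le (m := t + 1) (by omega)
    have h4 : 18 * k * (t + 1) ^ 2 ≤ (t + 1) ^ 3 := by
      rw [pow_succ (t + 1) 2, mul_comm ((t + 1) ^ 2)]
      exact Nat.mul_le_mul_right _ (by omega)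
    rw [pow_succ 2 t] at h3
    have h5 : 2 * (9 * (t + 1) ^ 2 * k) ≤ 2 * 2 ^ t := by
      calc 2 * (9 * (t + 1) ^ 2 * k) = 18 * k * (t + 1) ^ 2 := by ring
        _ ≤ 2 ^ t * 2 := h4.trans h3
        _ = 2 * 2 ^ t := by ring
    omega
  calc (l * c ^ (2 * Nat.log 2 c)) ^ k ≤ (2 ^ (9 * (t + 1) ^ 2)) ^ k := Nat.pow_le_pow_left h1 k
    _ = 2 ^ (9 * (t + 1) ^ 2 * k) := by rw [← pow_mul]
    _ ≤ 2 ^ l := Nat.pow_le_pow_right (by norm_num) h2
    _ ≤ n := hln

/-! ### generators -/

theorem exists_gens (R : Type*) [Group R] [Finite R] :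
    ∃ s : Finset R, Subgroup.closure (s : Set R) = ⊤ ∧ 2 ^ s.card ≤ Nat.card R := by
  classical
  have := Fintype.ofFinite R
  let P : Finset (Finset R) :=
    Finset.univ.filter fun s => 2 ^ s.card ≤ Nat.card (Subgroup.closure (s : Set R))
  have h0 : P.Nonempty := by
    refine ⟨∅, ?_⟩
    rw [Finset.mem_filter]
    refine ⟨Finset.mem_univ _, ?_⟩
    simp
  obtain ⟨s, hs, hmax⟩ := Finset.exists_max_image P Finset.card h0
  rw [Finset.mem_filter] at hs
  refine ⟨s, ?_, hs.2.trans (Subgroup.card_le_card_group _)⟩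
  by_contra hne
  obtain ⟨x, hx⟩ : ∃ x, x ∉ Subgroup.closure (s : Set R) := by
    by_contra hcon
    push Not at hcon
    exact hne (eq_top_iff.2 fun x _ => hcon x)
  have hxs : x ∉ s := fun h => hx (Subgroup.subset_closure h)
  have h1 : insert x s ∈ P := by
    rw [Finset.mem_filter]
    refine ⟨Finset.mem_univ _, ?_⟩
    rw [Finset.card_insert_of_notMem hxs, pow_succ']
    have hle : Subgroup.closure (s : Set R) ≤ Subgroup.closure ((insert x s : Finset R) : Set R) := by
      apply Subgroup.closure_mono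
      rw [Finset.coe_insert]
      exact Set.subset_insert _ _
    have hxm : x ∈ Subgroup.closure ((insert x s : Finset R) : Set R) :=
      Subgroup.subset_closure (by simp)
    have h2 := Subgroup.card_dvd_of_le hle
    have h3 : Nat.card (Subgroup.closure (s : Set R)) ≠
        Nat.card (Subgroup.closure ((insert x s : Finset R) : Set R)) := by
      intro h
      have h4 := Subgroup.eq_of_le_of_card_ge hle h.ge
      exact hx (by rw [h4]; exact hxm)
    obtain ⟨c, hc⟩ := h2
    have h5 : 0 < Nat.card (Subgroup.closure (s : Set R)) := Nat.card_pos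
    have h6 : 0 < Nat.card (Subgroup.closure ((insert x s : Finset R) : Set R)) := Nat.card_pos
    have h7 : 2 ≤ c := by
      rcases c with _ | _ | c
      · omega
      · exact absurd (by rw [hc]; ring) h3
      · omega
    calc 2 * 2 ^ s.card ≤ c * Nat.card (Subgroup.closure (s : Set R)) := Nat.mul_le_mul h7 hs.2
      _ = _ := by rw [hc, mul_comm]
  have h2 := hmax _ h1
  rw [Finset.card_insert_of_notMem hxs] at h2
  omega

/-! ### group theory -/

section Grp

variable {H : Type v} [Group H] [Finite H]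

/-- the number of elements with a given `r`-th power -/
theorem card_pow_eq_le {M : Type*} [Group M] [Finite M] {r : ℕ} (hr : 0 < r) (hcyc : IsCyclic (Subgroup.center M))
    (x : M) : Nat.card {m : M // m ^ r = x} ≤ Nat.card (M ⧸ Subgroup.center M) * r := by
  classical
  have := Fintype.ofFinite (Subgroup.center M)
  let g : M ⧸ Subgroup.center M → M := fun q =>
    if h : ∃ m : M, m ^ r = x ∧ (m : M ⧸ Subgroup.center M) = q then h.choose else 1
  have hg : ∀ m : M, m ^ r = x → g m ^ r = x ∧ (g m : M ⧸ Subgroup.center M) = m := by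
    intro m hm
    have h : ∃ m' : M, m' ^ r = x ∧ (m' : M ⧸ Subgroup.center M) = m := ⟨m, hm, rfl⟩
    have h1 : g m = h.choose := dif_pos h
    rw [h1]
    exact h.choose_spec
  have hz : ∀ m : M, m ^ r = x → (g m)⁻¹ * m ∈ Subgroup.center M := fun m hm =>
    QuotientGroup.eq.1 (hg m hm).2
  have hzr : ∀ (m : M) (hm : m ^ r = x), (⟨(g m)⁻¹ * m, hz m hm⟩ : Subgroup.center M) ^ r = 1 := by
    intro m hm
    apply Subtype.ext
    change ((g m)⁻¹ * m) ^ r = 1
    have h1 := Subgroup.mem_center_iff.1 (hz m hm) (g m)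
    have h2 : m ^ r = g m ^ r * ((g m)⁻¹ * m) ^ r := by
      have h3 : Commute (g m) ((g m)⁻¹ * m) := h1
      rw [← h3.mul_pow]
      congr 1
      group
    rw [hm, (hg m hm).1] at h2
    exact (mul_eq_left.1 h2.symm)
  let φ : {m : M // m ^ r = x} → (M ⧸ Subgroup.center M) × {z : Subgroup.center M // z ^ r = 1} :=
    fun m => (m.1, ⟨⟨(g m.1)⁻¹ * m.1, hz m.1 m.2⟩, hzr m.1 m.2⟩)
  have hφ : Function.Injective φ := by
    intro m m' h
    have h1 : (m.1 : M ⧸ Subgroup.center M) = m'.1 := congrArg Prod.fst h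
    have h2 : (g m.1)⁻¹ * m.1 = (g m'.1)⁻¹ * m'.1 :=
      congrArg (fun y => ((y.2 : {z : Subgroup.center M // z ^ r = 1}).1 : M)) h
    rw [h1] at h2
    exact Subtype.ext (mul_left_cancel h2)
  refine (Nat.card_le_card_of_injective φ hφ).trans ?_
  rw [Nat.card_prod]
  refine Nat.mul_le_mul_left _ ?_
  have h3 := IsCyclic.card_pow_eq_one_le (α := Subgroup.center M) hr
  rw [Nat.card_eq_fintype_card, Fintype.card_subtype]
  exact h3

/-- the centraliser of `M` in the centraliser of `Z(M)` -/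
theorem relIndex_le (M : Subgroup H) [M.Normal] {r : ℕ} (hr : 0 < r) (hcyc : IsCyclic (Subgroup.center M))
    (hpow : ∀ m : M, m ^ r ∈ Subgroup.center M) :
    (Subgroup.centralizer (M : Set H)).relIndex
      (Subgroup.centralizer (((Subgroup.center M).map M.subtype : Subgroup H) : Set H)) ≤
      (Nat.card (M ⧸ Subgroup.center M) * r) ^ Nat.log 2 (Nat.card (M ⧸ Subgroup.center M)) := by
  classical
  set c := Nat.card (M ⧸ Subgroup.center M) with hc
  obtain ⟨s, hs, hsc⟩ := exists_gens (M ⧸ Subgroup.center M)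
  set X := Subgroup.centralizer (((Subgroup.center M).map M.subtype : Subgroup H) : Set H) with hX
  let C := (Subgroup.centralizer (M : Set H)).subgroupOf X
  let rep : M ⧸ Subgroup.center M → M := Quotient.out
  have hrep : ∀ q : M ⧸ Subgroup.center M, (rep q : M ⧸ Subgroup.center M) = q := fun q => QuotientGroup.out_eq' q
  have hXz : ∀ (h : X) (z : M), z ∈ Subgroup.center M → (h : H) * z * (h : H)⁻¹ = z := by
    intro h z hz
    have h1 := Subgroup.mem_centralizer_iff.1 h.2 (z : H) ⟨z, hz, rfl⟩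
    rw [← h1, mul_inv_cancel_right]
  have hnm : ∀ (h : H) (m : M), h * m * h⁻¹ ∈ M := fun h m => Subgroup.Normal.conj_mem ‹_› _ m.2 h
  let f : X → (∀ t : s, {m : M // m ^ r = rep t ^ r}) := fun h t =>
    ⟨⟨(h : H) * rep t * (h : H)⁻¹, hnm h _⟩, by
      apply Subtype.ext
      change ((h : H) * rep t * (h : H)⁻¹) ^ r = ((rep (t : M ⧸ Subgroup.center M) : M) : H) ^ r
      rw [conj_pow]
      exact hXz h _ (hpow (rep t))⟩
  have hf : ∀ h h' : X, f h = f h' → h⁻¹ * h' ∈ C := by
    intro h h' hh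
    have h1 : ∀ t ∈ s, (h : H) * rep t * (h : H)⁻¹ = (h' : H) * rep t * (h' : H)⁻¹ := by
      intro t ht
      have h2 := congrFun hh ⟨t, ht⟩
      exact congrArg (fun y : {m : M // m ^ r = rep t ^ r} => ((y.1 : M) : H)) h2
    -- the elements of `M` commuting with `g`
    set g : H := (h : H)⁻¹ * h' with hg
    have hgX : g ∈ X := X.mul_mem (X.inv_mem h.2) h'.2
    let K : Subgroup M := (Subgroup.centralizer {g}).subgroupOf M
    have hKmem : ∀ m : M, m ∈ K ↔ (m : H) * g = g * m := fun m => by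
      rw [Subgroup.mem_subgroupOf, Subgroup.mem_centralizer_singleton_iff]
    have hKz : Subgroup.center M ≤ K := by
      intro z hz
      rw [hKmem]
      exact Subgroup.mem_centralizer_iff.1 hgX (z : H) ⟨z, hz, rfl⟩
    have hKt : ∀ t ∈ s, rep t ∈ K := by
      intro t ht
      rw [hKmem, hg]
      have h3 := h1 t ht
      calc (rep t : H) * ((h : H)⁻¹ * h') = (h : H)⁻¹ * ((h : H) * rep t * (h : H)⁻¹) * h' := by group
        _ = (h : H)⁻¹ * ((h' : H) * rep t * (h' : H)⁻¹) * h' := by rw [h3]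
        _ = (h : H)⁻¹ * h' * rep t := by group
    have hKtop : K = ⊤ := by
      have h4 : K.map (QuotientGroup.mk' (Subgroup.center M)) = ⊤ := by
        rw [eq_top_iff, ← hs, Subgroup.closure_le]
        intro t ht
        exact ⟨rep t, hKt t ht, hrep t⟩
      have h5 : K = (K.map (QuotientGroup.mk' (Subgroup.center M))).comap (QuotientGroup.mk' (Subgroup.center M)) := by
        rw [Subgroup.comap_map_eq, QuotientGroup.ker_mk', sup_eq_left.2 hKz]
      rw [h5, h4, Subgroup.comap_top]
    rw [Subgroup.mem_subgroupOf, Subgroup.mem_centralizer_iff]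
    intro m hm
    have h6 : (⟨m, hm⟩ : M) ∈ K := by rw [hKtop]; exact Subgroup.mem_top _
    exact (hKmem _).1 h6
  have h1 : (Subgroup.centralizer (M : Set H)).relIndex X ≤ Nat.card (∀ t : s, {m : M // m ^ r = rep t ^ r}) := by
    change Nat.card (X ⧸ C) ≤ _
    refine Nat.card_le_card_of_injective (fun q : X ⧸ C => f q.out) ?_
    intro q q' hq
    have h3 := hf _ _ hq
    rw [← QuotientGroup.out_eq' q, ← QuotientGroup.out_eq' q']
    exact QuotientGroup.eq.2 h3
  refine h1.trans ?_
  rw [Nat.card_pi]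
  calc ∏ t : s, Nat.card {m : M // m ^ r = rep t ^ r} ≤ ∏ _t : s, (c * r) :=
        Finset.prod_le_prod' fun t _ => card_pow_eq_le hr hcyc _
    _ = (c * r) ^ s.card := by rw [Finset.prod_const, Finset.card_univ, Fintype.card_coe]
    _ ≤ (c * r) ^ Nat.log 2 c := by
        refine Nat.pow_le_pow_right ?_ (Nat.le_log_of_pow_le (by norm_num) hsc)
        exact Nat.mul_pos Nat.card_pos hr

end Grp

section Main

variable {V : Type u} [AddCommGroup V] [Finite V] {H : Type v} [Group H] [Finite H] [DistribMulAction H V]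
  [FaithfulSMul H V]

theorem two_pow_finrank_le {D : Type*} [Field D] [Finite D] {W : Type*} [AddCommGroup W] [Module D W]
    [Module.Finite D W] : 2 ^ Module.finrank D W ≤ Nat.card W := by
  rw [Module.natCard_eq_pow_finrank (K := D)]
  exact Nat.pow_le_pow_left (Finite.one_lt_card) _

theorem finrank_le (M : Subgroup H) (W : Submodule (KA V M) V)
    (hW : IsSimpleModule (KA V M) W) :
    Module.finrank (Module.End (KA V M) W) W ≤ Nat.log 2 (Nat.card V) := by
  classical
  have hfD : Finite (Module.End (KA V M) W) :=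
    Finite.of_injective (fun f : Module.End (KA V M) W => (f : W → W)) DFunLike.coe_injective
  have hWn : Nontrivial W := IsSimpleModule.nontrivial (KA V M) W
  letI hDiv : DivisionRing (Module.End (KA V M) W) := Module.End.instDivisionRing
  letI hF : Field (Module.End (KA V M) W) := littleWedderburn (Module.End (KA V M) W)
  letI hMod : @Module (Module.End (KA V M) W) W hF.toSemiring _ := Module.End.applyModule
  have hfin : Module.Finite (Module.End (KA V M) W) W := inferInstance
  have h1 : 2 ^ Module.finrank (Module.End (KA V M) W) W ≤ Nat.card W := two_pow_finrank_le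
  have h2 : Nat.card W ≤ Nat.card V := Nat.card_le_card_of_injective _ (Subtype.coe_injective)
  exact Nat.le_log_of_pow_le (by norm_num) (h1.trans h2)

/-- the bound -/
theorem index_le {p : ℕ} (hp : p.Prime) [Nontrivial V] (hpV : ∀ w : V, p • w = 0) (M : Subgroup H) [M.Normal]
    (hom : ∀ K : Subgroup H, K.Normal → Homog V K) {r : ℕ} (hr : r.Prime)
    (hM : ∀ m : M, m ^ r ∈ Subgroup.center M ∧ ∀ m' : M, m * m' * m⁻¹ * m'⁻¹ ∈ Subgroup.center M) :
    (Subgroup.centralizer (M : Set H)).index ≤ Nat.log 2 (Nat.card V) *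
      Nat.card (M ⧸ Subgroup.center M) ^ (2 * Nat.log 2 (Nat.card (M ⧸ Subgroup.center M))) := by
  set Z : Subgroup H := (Subgroup.center M).map M.subtype with hZ
  have hZn : Z.Normal := ConjAct.normal_of_characteristic_of_normal
  have hZc : IsMulCommutative Z := by
    refine ⟨⟨?_⟩⟩
    rintro ⟨_, a, ha, rfl⟩ ⟨_, b, hb, rfl⟩
    apply Subtype.ext
    change (a : H) * b = b * a
    exact congrArg (fun x : M => (x : H)) (Subgroup.mem_center_iff.1 hb a)
  have hcyc' : IsCyclic Z := cyclic_of_homog (hom Z hZn) hZc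
  have hcyc : IsCyclic (Subgroup.center M) :=
    isCyclic_of_surjective
      ((Subgroup.center M).equivMapOfInjective M.subtype M.subtype_injective).symm
      (MulEquiv.surjective _)
  have h1 := index_centralizer_le hp hpV Z (hom Z hZn) hZc
  have h2 := relIndex_le M hr.pos hcyc (fun m => (hM m).1)
  set c := Nat.card (M ⧸ Subgroup.center M) with hc
  have hle : Subgroup.centralizer (M : Set H) ≤ Subgroup.centralizer (Z : Set H) := by
    apply Subgroup.centralizer_le
    rintro _ ⟨a, -, rfl⟩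
    exact a.2
  rw [← Subgroup.relIndex_mul_index hle, mul_comm]
  refine Nat.mul_le_mul h1 (h2.trans ?_)
  by_cases hc1 : c ≤ 1
  · have h3 : Nat.log 2 c = 0 := Nat.log_of_lt (by omega)
    rw [h3, pow_zero, mul_zero, pow_zero]
  · have h3 : r ≤ c := by
      have : Nontrivial (M ⧸ Subgroup.center M) := by
        rw [← Finite.one_lt_card_iff_nontrivial]
        omega
      obtain ⟨x, hx⟩ := exists_ne (1 : M ⧸ Subgroup.center M)
      obtain ⟨m, rfl⟩ := QuotientGroup.mk_surjective x
      have h4 : ((m : M ⧸ Subgroup.center M)) ^ r = 1 := by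
        rw [← QuotientGroup.mk_pow]
        exact (QuotientGroup.eq_one_iff _).2 (hM m).1
      have h5 := orderOf_eq_prime h4 hx (hp := ⟨hr⟩)
      have h6 : orderOf (m : M ⧸ Subgroup.center M) ∣ Nat.card (M ⧸ Subgroup.center M) := orderOf_dvd_natCard _
      rw [h5] at h6
      exact Nat.le_of_dvd Nat.card_pos h6
    calc (c * r) ^ Nat.log 2 c ≤ (c * c) ^ Nat.log 2 c := Nat.pow_le_pow_left (Nat.mul_le_mul_left _ h3) _
      _ = c ^ (2 * Nat.log 2 c) := by rw [← pow_two, ← pow_mul]

end Main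

/-- **AF3: class two.** -/
theorem kap_class_two (k : ℕ) : ∃ N : ℕ, ∀ (p : ℕ) (V : Type u) [AddCommGroup V] [Finite V] (H : Type v) [Group H]
    [Finite H] [DistribMulAction H V] [FaithfulSMul H V] (M : Subgroup H) [M.Normal] (r : ℕ), p.Prime →
    (∀ w : V, p • w = 0) → (∀ K : Subgroup H, K.Normal → Homog V K) → N ≤ Nat.card V → r.Prime →
    (∀ m : M, m ^ r ∈ Subgroup.center M ∧ ∀ m' : M, m * m' * m⁻¹ * m'⁻¹ ∈ Subgroup.center M) →
    (Subgroup.centralizer (M : Set H)).index ^ k ≤ Nat.card V := by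
  obtain ⟨N, hN⟩ := exists_bound k
  refine ⟨max N 2, ?_⟩
  intro p V _ _ H _ _ _ _ M _ r hp hpV hom hcard hr hM
  have hV : Nontrivial V := by
    rw [← Finite.one_lt_card_iff_nontrivial]
    omega
  have h1 := index_le hp hpV M hom hr hM
  have hss := (hom M inferInstance).1
  obtain ⟨W, hW⟩ := IsSemisimpleModule.exists_simple_submodule (KA V M) V
  have h2 := card_quot_le M (hom M inferInstance) (fun m m' => (hM m).2 m') W hW
  have h3 := finrank_le M W hW
  have h4 : Nat.card (M ⧸ Subgroup.center M) ≤ Nat.log 2 (Nat.card V) ^ 2 :=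
    h2.trans (Nat.pow_le_pow_left h3 2)
  exact (Nat.pow_le_pow_left h1 k).trans (hN _ _ ((le_max_left _ _).trans hcard) h4)

end Cfsg.Agent.H112.Af
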