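import Cfsg.Agent.H112.Af.Field

/-!
# S5731, AF3: class two (helper112)
-/

set_option autoImplicit false
set_option linter.unusedSectionVars false
set_option linter.style.haveILetI false

namespace Cfsg.Agent.H112.Af

open Cfsg.Agent.H717.FieldOf Cfsg.Agent.H192.Af

universe u v

/-- Dedekind independence of coset representatives -/
theorem card_quot_le_aux {D : Type*} [Field D] {W : Type*} [AddCommGroup W] [Module D W] [Module.Finite D W]
    [Nontrivial W] {M : Type*} [Group M] [Finite M] (ρ : M →* Module.End D W) (hinj : Function.Injective ρ)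
    (hz : ∀ m m' : M, ∃ d : D, ρ (m * m' * m⁻¹ * m'⁻¹) = d • 1) :
    Nat.card (M ⧸ Subgroup.center M) ≤ Module.finrank D W ^ 2 := by
  classical
  choose l hl using hz
  have hconj : ∀ m m' : M, ρ m * ρ m' * ρ m⁻¹ = l m m' • ρ m' := by
    intro m m'
    have h1 : m * m' * m⁻¹ = (m * m' * m⁻¹ * m'⁻¹) * m' := by group
    rw [← map_mul, ← map_mul, h1, map_mul, hl, smul_mul_assoc, one_mul]
  have hne : ∀ m : M, ρ m ≠ 0 := by
    intro m h
    have h1 : ρ m * ρ m⁻¹ = 1 := by rw [← map_mul, mul_inv_cancel, map_one]
    rw [h, zero_mul] at h1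
    exact zero_ne_one h1
  -- different cosets have different characters
  have hsep : ∀ c a : M, (∀ m, l m c = l m a) → (c : M ⧸ Subgroup.center M) = a := by
    intro c a h
    rw [QuotientGroup.eq, Subgroup.mem_center_iff]
    intro g
    have h1 : ρ (g * c * g⁻¹ * c⁻¹) = ρ (g * a * g⁻¹ * a⁻¹) := by rw [hl, hl, h]
    have h2 := hinj h1
    have h3 : c * g⁻¹ * c⁻¹ = a * g⁻¹ * a⁻¹ := by
      have h4 : g⁻¹ * (g * c * g⁻¹ * c⁻¹) = g⁻¹ * (g * a * g⁻¹ * a⁻¹) := by rw [h2]
      calc c * g⁻¹ * c⁻¹ = g⁻¹ * (g * c * g⁻¹ * c⁻¹) := by group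
        _ = g⁻¹ * (g * a * g⁻¹ * a⁻¹) := h4
        _ = a * g⁻¹ * a⁻¹ := by group
    have h5 : c * g * c⁻¹ = a * g * a⁻¹ := by
      have h6 := congrArg (fun x => x⁻¹) h3
      simpa [mul_assoc] using h6
    calc g * (c⁻¹ * a) = c⁻¹ * (c * g * c⁻¹) * a := by group
      _ = c⁻¹ * (a * g * a⁻¹) * a := by rw [h5]
      _ = c⁻¹ * a * g := by group
  let r : M ⧸ Subgroup.center M → M := Quotient.out
  have hr : ∀ c : M ⧸ Subgroup.center M, (r c : M ⧸ Subgroup.center M) = c := fun c => QuotientGroup.out_eq' c
  have key : ∀ (s : Finset (M ⧸ Subgroup.center M)) (d : M ⧸ Subgroup.center M → D),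
      ∑ c ∈ s, d c • ρ (r c) = 0 → ∀ c ∈ s, d c = 0 := by
    intro s
    induction s using Finset.induction_on with
    | empty => intro d _ c hc; simp at hc
    | insert a s ha ih =>
      intro d hd
      have h1 : ∀ m : M, ∀ c ∈ s, d c * (l m (r c) - l m (r a)) = 0 := by
        intro m
        apply ih (fun c => d c * (l m (r c) - l m (r a)))
        have h2 : ∑ c ∈ insert a s, (d c * l m (r c)) • ρ (r c) = 0 := by
          have h3 : ρ m * (∑ c ∈ insert a s, d c • ρ (r c)) * ρ m⁻¹ = 0 := by rw [hd, mul_zero, zero_mul]
          rw [Finset.mul_sum, Finset.sum_mul] at h3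
          rw [← h3]
          refine Finset.sum_congr rfl fun c _ => ?_
          rw [mul_smul_comm, smul_mul_assoc, hconj, smul_smul]
        have h4 : ∑ c ∈ insert a s, (d c * (l m (r c) - l m (r a))) • ρ (r c) = 0 := by
          have h5 : l m (r a) • ∑ c ∈ insert a s, d c • ρ (r c) = 0 := by rw [hd, smul_zero]
          rw [Finset.smul_sum] at h5
          have h6 : ∑ c ∈ insert a s, (d c * (l m (r c) - l m (r a))) • ρ (r c) =
              ∑ c ∈ insert a s, (d c * l m (r c)) • ρ (r c) -
                ∑ c ∈ insert a s, l m (r a) • d c • ρ (r c) := by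
            rw [← Finset.sum_sub_distrib]
            refine Finset.sum_congr rfl fun c _ => ?_
            rw [smul_smul, ← sub_smul]
            congr 1
            ring
          rw [h6, h2, h5, sub_zero]
        rwa [Finset.sum_insert ha, sub_self, mul_zero, zero_smul, zero_add] at h4
      have h6 : ∀ c ∈ s, d c = 0 := by
        intro c hc
        by_contra hdc
        apply ha
        have h7 : ∀ m, l m (r c) = l m (r a) := fun m => sub_eq_zero.1 ((mul_eq_zero.1 (h1 m c hc)).resolve_left hdc)
        have h8 := hsep _ _ h7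
        rw [hr, hr] at h8
        rwa [← h8]
      intro c hc
      rcases Finset.mem_insert.1 hc with rfl | hc
      · rw [Finset.sum_insert ha, Finset.sum_eq_zero (fun c hc => by rw [h6 c hc, zero_smul]), add_zero] at hd
        exact (smul_eq_zero.1 hd).resolve_right (hne _)
      · exact h6 c hc
  have hli : LinearIndependent D (fun c => ρ (r c)) := linearIndependent_iff'.2 key
  have := Fintype.ofFinite (M ⧸ Subgroup.center M)
  have h9 := hli.fintype_card_le_finrank
  rw [Nat.card_eq_fintype_card]
  refine h9.trans_eq ?_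
  rw [Module.finrank_linearMap, pow_two]

section

variable {V : Type u} [AddCommGroup V] [Finite V] {H : Type v} [Group H] [Finite H] [DistribMulAction H V]
  [FaithfulSMul H V]

/-- **Class two: linear independence of coset representatives.** -/
theorem card_quot_le [Nontrivial V] (M : Subgroup H) [M.Normal] (hM : Homog V M)
    (h2 : ∀ m m' : M, m * m' * m⁻¹ * m'⁻¹ ∈ Subgroup.center M) (W : Submodule (KA V M) V)
    (hW : IsSimpleModule (KA V M) W) :
    Nat.card (M ⧸ Subgroup.center M) ≤ Module.finrank (Module.End (KA V M) W) W ^ 2 := by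
  classical
  have hfD : Finite (Module.End (KA V M) W) :=
    Finite.of_injective (fun f : Module.End (KA V M) W => (f : W → W)) DFunLike.coe_injective
  have hWn : Nontrivial W := IsSimpleModule.nontrivial (KA V M) W
  letI hDiv : DivisionRing (Module.End (KA V M) W) := Module.End.instDivisionRing
  letI hF : Field (Module.End (KA V M) W) := littleWedderburn (Module.End (KA V M) W)
  letI hMod : @Module (Module.End (KA V M) W) W hF.toSemiring _ := Module.End.applyModule
  have hfin : Module.Finite (Module.End (KA V M) W) W := inferInstance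
  let ρ : M →* Module.End (Module.End (KA V M) W) W :=
    { toFun := fun m =>
        { toFun := fun w => (⟨dl V (m : H), dl_mem M m.2⟩ : KA V M) • w
          map_add' := fun a b => smul_add _ _ _
          map_smul' := fun d w => by
            change _ • (d w) = d (_ • w)
            rw [map_smul] }
      map_one' := by
        apply LinearMap.ext
        intro w
        apply Subtype.ext
        change (1 : H) • (w : V) = w
        rw [one_smul]
      map_mul' := fun a b => by
        apply LinearMap.ext
        intro w
        apply Subtype.ext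
        change ((a : H) * b) • (w : V) = (a : H) • (b : H) • (w : V)
        rw [mul_smul] }
  have hρ : ∀ (m : M) (w : W), ((ρ m w : W) : V) = (m : H) • (w : V) := fun _ _ => rfl
  have hinj : Function.Injective ρ := by
    rw [injective_iff_map_eq_one]
    intro m hm
    have h3 : ((⟨dl V (m : H), dl_mem M m.2⟩ : KA V M) - 1) = 0 := by
      refine eq_zero_of_simple hM hW ?_
      intro w hw
      rw [sub_smul, one_smul, sub_eq_zero]
      have h4 := hρ m ⟨w, hw⟩
      rw [hm] at h4
      exact h4.symm
    rw [sub_eq_zero] at h3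
    apply Subtype.ext
    apply FaithfulSMul.eq_of_smul_eq_smul (α := V)
    intro e
    rw [Subgroup.coe_one, one_smul]
    exact DFunLike.congr_fun (congrArg Subtype.val h3) e
  refine card_quot_le_aux ρ hinj fun m m' => ?_
  -- a central element of `M` acts as an endomorphism
  have hc := Subgroup.mem_center_iff.1 (h2 m m')
  set z : M := m * m' * m⁻¹ * m'⁻¹ with hz
  have hcomm : ∀ r ∈ KA V M, r * dl V (z : H) = dl V (z : H) * r := by
    have hle : KA V M ≤ Subring.centralizer {dl V (z : H)} := by
      unfold KA
      rw [Subring.closure_le]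
      rintro _ ⟨a, ha, rfl⟩
      rw [SetLike.mem_coe, Subring.mem_centralizer_iff]
      rintro _ rfl
      rw [← map_mul, ← map_mul]
      congr 1
      exact (congrArg Subtype.val (hc ⟨a, ha⟩)).symm
    intro r hr
    exact (Subring.mem_centralizer_iff.1 (hle hr) _ rfl).symm
  let d : Module.End (KA V M) W :=
    { toFun := fun w => (⟨dl V (z : H), dl_mem M z.2⟩ : KA V M) • w
      map_add' := fun a b => smul_add _ _ _
      map_smul' := fun r w => by
        rw [RingHom.id_apply, ← mul_smul, ← mul_smul]
        congr 1
        exact Subtype.ext (hcomm r r.2).symm }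
  refine ⟨d, ?_⟩
  apply LinearMap.ext
  intro w
  rfl

end

end Cfsg.Agent.H112.Af
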